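import Cfsg.Agent.H94.Meet.Normal
import Cfsg.Agent.H24.MeetProps
import Cfsg.Agent.H35.Meet.Transporter

/-! Existence of the intersection of two normal subsystems, given the Sylow property of its automizers. -/

set_option autoImplicit false
set_option linter.unusedSectionVars false

namespace Cfsg.Agent.H94.Meet

open Cfsg Cfsg.FusionSystem
open Cfsg.Agent.H93 (Mor)

variable {Ω : Type*} [Group Ω] {S T₁ T₂ : Subgroup Ω} {F : FusionSystem S} {E₁ : FusionSystem T₁}
  {E₂ : FusionSystem T₂} {p : ℕ} [Finite S] [Fact p.Prime]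

/-- The hypotheses of the construction from the Sylow property. -/
theorem hyps_of_sylow (h : Data p F E₁ E₂) (hsyl : SylowProp p F E₁ E₂) : Hyps p F E₁ E₂ where
  toData := h
  sylow := hsyl
  restrict := H24.Meet.restrictProp h hsyl
  lift := H24.Meet.liftProp h
  transporter := fun U => by
    have hfin : Finite (meetAut p F E₁ E₂ U) := by
      by_cases hU : U ≤ S
      · have := H96.finite_of_le hU
        have : Finite (MulAut U) := Finite.of_injective (fun e : MulAut U => (e : U → U)) DFunLike.coe_injective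
        infer_instance
      · have hbot : meetAut p F E₁ E₂ U = ⊥ := by
          rw [eq_bot_iff]
          refine meetAut_le_of_gens ?_
          rintro a (⟨⟨⟨f, hf, -⟩, -⟩, -⟩ | ⟨V, φ, t, hφ, -⟩)
          · exact absurd hf.le_left hU
          · exact absurd hφ.le_left hU
        rw [hbot]
        infer_instance
    intro P Φ h1 h2 h3 h4
    exact H35.Meet.transporter_induction P Φ h1 h2 h3 h4

/-- The intersection of two normal subsystems. -/
theorem exists_meet_of_sylow (hS : IsPGroup p S) (hF : F.IsSaturated p) (h₁ : E₁.IsNormalIn F p)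
    (h₂ : E₂.IsNormalIn F p) (hsyl : SylowProp p F E₁ E₂) :
    ∃ D : FusionSystem (T₁ ⊓ T₂), (D.IsNormalIn F p ∧ D.IsNormalIn E₁ p ∧ D.IsNormalIn E₂ p) ∧
      ∀ D' : FusionSystem (T₁ ⊓ T₂), D'.IsNormalIn F p → D'.IsNormalIn E₁ p → D'.IsNormalIn E₂ p →
        D'.IsSubsystemOf D := by
  have h := hyps_of_sylow ⟨hS, hF, h₁.1, h₂.1⟩ hsyl
  exact ⟨_, ⟨meet_isNormalIn h, meet_isNormalIn_left h, meet_isNormalIn_right h⟩,
    fun D' a b c => isSubsystemOf_meet h a b c⟩

end Cfsg.Agent.H94.Meet
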