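import Cfsg.Agent.H93.Mor
import Cfsg.Agent.H93.Normal
import Cfsg.Agent.H94.Invariance
import Cfsg.Agent.H94.SatBasic

/-!
The meet of two weakly normal subsystems: the data, congruent automorphisms and the automizers of the meet.
-/

set_option autoImplicit false
set_option linter.unusedSectionVars false

namespace Cfsg.Agent.H94.Meet

open Cfsg Cfsg.FusionSystem
open Cfsg.Agent.H93 (Mor)

variable {Ω : Type*} [Group Ω] {S T T₁ T₂ : Subgroup Ω} {F : FusionSystem S} {E₁ : FusionSystem T₁}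
  {E₂ : FusionSystem T₂} {p : ℕ}

/-- The hypotheses of the construction. -/
structure Data (p : ℕ) (F : FusionSystem S) (E₁ : FusionSystem T₁) (E₂ : FusionSystem T₂) : Prop where
  isPGroup : IsPGroup p S
  saturated : F.IsSaturated p
  left : E₁.IsWeaklyNormalIn F p
  right : E₂.IsWeaklyNormalIn F p

/-- A subgroup together with its centralizer in `S`. -/
def hull (S U : Subgroup Ω) : Subgroup Ω := U ⊔ centralizerIn S U

/-- All conjugates of `U` contain their centralizers in `T`. -/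
def TCentric (F : FusionSystem S) (T U : Subgroup Ω) : Prop :=
  U ≤ T ∧ ∀ U' : Subgroup Ω, F.IsConj U U' → centralizerIn T U' ≤ U'

/-- The automorphism is a map of the system. -/
def ActsIn {W : Subgroup Ω} (E : FusionSystem W) (U : Subgroup Ω) (a : MulAut U) : Prop :=
  ∃ f : Ω → Ω, Mor E U U f ∧ ∀ x : U, f x = ((a x : U) : Ω)

/-- `φ`-conjugate of `a` extends to the hull of `U'` congruent to the identity modulo `T`. -/
def CongAt (F : FusionSystem S) (T U U' : Subgroup Ω) (φ : Ω → Ω) (a : MulAut U) : Prop :=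
  ∃ g : Ω → Ω, Mor F (hull S U') (hull S U') g ∧ (∀ x : U, g (φ x) = φ ((a x : U) : Ω)) ∧
    ∀ y ∈ hull S U', y⁻¹ * g y ∈ T

/-- As `CongAt` for the intersection, the extension restricting to maps of both subsystems. -/
def CongIn (F : FusionSystem S) (E₁ : FusionSystem T₁) (E₂ : FusionSystem T₂) (U U' : Subgroup Ω) (φ : Ω → Ω)
    (a : MulAut U) : Prop :=
  ∃ g : Ω → Ω, Mor F (hull S U') (hull S U') g ∧ (∀ x : U, g (φ x) = φ ((a x : U) : Ω)) ∧
    (∀ y ∈ hull S U', y⁻¹ * g y ∈ T₁ ⊓ T₂) ∧ Mor E₁ (hull T₁ U') (hull T₁ U') g ∧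
      Mor E₂ (hull T₂ U') (hull T₂ U') g

theorem CongIn.congAt {U U' : Subgroup Ω} {φ : Ω → Ω} {a : MulAut U} (h : CongIn F E₁ E₂ U U' φ a) :
    CongAt F (T₁ ⊓ T₂) U U' φ a :=
  let ⟨g, hg, hga, hgc, _, _⟩ := h
  ⟨g, hg, hga, hgc⟩

/-- A common automorphism of the two subsystems, congruent to the identity modulo the intersection. -/
def BGood (F : FusionSystem S) (E₁ : FusionSystem T₁) (E₂ : FusionSystem T₂) (U : Subgroup Ω) (a : MulAut U) :
    Prop :=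
  ActsIn F U a ∧ ActsIn E₁ U a ∧ ActsIn E₂ U a ∧
    ∀ (U' : Subgroup Ω) (φ : Ω → Ω), Mor F U U' φ → F.IsFullyCentralized U' → CongIn F E₁ E₂ U U' φ a

/-- The automorphism is a conjugate of one induced by an element of `T`. -/
def ConjInner (F : FusionSystem S) (T U : Subgroup Ω) (a : MulAut U) : Prop :=
  ∃ (U' : Subgroup Ω) (φ : Ω → Ω) (t : Ω), Mor F U U' φ ∧ t ∈ normalizerIn T U' ∧
    ∀ x : U, φ ((a x : U) : Ω) = t * φ x * t⁻¹

/-- The generators of the automizer of the meet. -/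
def meetSet (p : ℕ) (F : FusionSystem S) (E₁ : FusionSystem T₁) (E₂ : FusionSystem T₂) (U : Subgroup Ω) :
    Set (MulAut U) :=
  {a | BGood F E₁ E₂ U a ∧ (orderOf a).Coprime p} ∪ {a | ConjInner F (T₁ ⊓ T₂) U a}

/-- The automizer of the meet. -/
def meetAut (p : ℕ) (F : FusionSystem S) (E₁ : FusionSystem T₁) (E₂ : FusionSystem T₂) (U : Subgroup Ω) :
    Subgroup (MulAut U) :=
  Subgroup.closure (meetSet p F E₁ E₂ U)

theorem le_hull (S U : Subgroup Ω) : U ≤ hull S U := le_sup_left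

theorem centralizerIn_le_hull (S U : Subgroup Ω) : centralizerIn S U ≤ hull S U := le_sup_right

theorem hull_le {U : Subgroup Ω} (hU : U ≤ S) : hull S U ≤ S := sup_le hU inf_le_left

theorem actsIn_iff {W U : Subgroup Ω} {E : FusionSystem W} (hU : U ≤ W) {a : MulAut U} :
    ActsIn E U a ↔ a ∈ E.autGroup U := by
  constructor
  · rintro ⟨f, hf, hfe⟩
    obtain ⟨b, hb, hbe⟩ := hf.exists_aut
    rwa [show a = b from MulEquiv.ext fun x => Subtype.ext ((hfe x).symm.trans (hbe x).symm)]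
  · intro ha
    exact H93.exists_mor_of_aut hU ha

/-- Elements of `T` meet the hull of a `T`-centric subgroup in the subgroup. -/
theorem TCentric.mem_of_hull {U : Subgroup Ω} (hU : TCentric F T U) (hTS : T ≤ S) {y : Ω}
    (hy : y ∈ hull S U) (hyT : y ∈ T) : y ∈ U := by
  rw [hull, ← SetLike.mem_coe, Subgroup.coe_mul_of_right_le_normalizer_left U (centralizerIn S U)
    ((inf_le_right : centralizerIn S U ≤ _).trans (Subgroup.centralizer_le_normalizer _))] at hy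
  obtain ⟨u, hu, c, hc, rfl⟩ := hy
  have hcT : c ∈ T := (Subgroup.mul_mem_cancel_left T (hU.1 hu)).1 hyT
  exact U.mul_mem hu (hU.2 U (H93.isConj_refl F (hU.1.trans hTS)) ⟨hcT, hc.2⟩)

theorem TCentric.of_mor {U U' : Subgroup Ω} (hU : TCentric F T U) (hT : F.StronglyClosed T) {φ : Ω → Ω}
    (hφ : Mor F U U' φ) : TCentric F T U' := by
  refine ⟨?_, fun V hV => hU.2 V (H93.isConj_trans hφ.isConj hV)⟩
  intro y hy
  obtain ⟨x, hx, rfl⟩ := hφ.surj hy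
  obtain ⟨ψ, hψ, -, hv⟩ := hφ
  rw [← hv ⟨x, hx⟩]
  exact H93.StronglyClosed.apply_mem hT hψ ⟨x, hx⟩ (hU.1 hx)

theorem TCentric.mono {U R : Subgroup Ω} (hU : TCentric F T U) (hUR : U ≤ R) (hR : R ≤ T) : TCentric F T R := by
  refine ⟨hR, fun R' hR' => ?_⟩
  obtain ⟨ψ, hψ, rfl⟩ := hR'
  obtain ⟨f, hf, -⟩ := H93.exists_mor hψ rfl
  obtain ⟨U', hU', hfU⟩ := hf.restrict hUR
  exact fun x hx => hU' (hU.2 U' hfU.isConj ⟨hx.1, Subgroup.centralizer_le hU' hx.2⟩)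

variable [Finite S] [Fact p.Prime]

/-- A map onto a fully centralized subgroup extends to the hull; onto it, if the source is fully centralized. -/
theorem exists_hull_map (hS : IsPGroup p S) (hF : F.IsSaturated p) {U U' : Subgroup Ω} {φ : Ω → Ω}
    (hφ : Mor F U U' φ) (hU' : F.IsFullyCentralized U') :
    ∃ g, (∀ x ∈ U, g x = φ x) ∧ ∃ M ≤ hull S U', Mor F (hull S U) M g ∧
      (F.IsFullyCentralized U → M = hull S U') := by
  have hUS := hφ.le_left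
  obtain ⟨g, M, hg, hge, hgU⟩ := hφ.extend (M := centralizerIn S U) (fullyCentralized_receptive hS hF hU')
    fun m hm => ⟨H93.centralizerIn_le_normalizerIn S U hm, 1, S.one_mem, fun x hx => by
      rw [one_mul, inv_one, mul_one, (H93.mem_centralizerIn.1 hm).2 x hx]⟩
  obtain ⟨C, hCM, hgC⟩ := hg.restrict (le_sup_right : centralizerIn S U ≤ U ⊔ centralizerIn S U)
  have hC : C ≤ centralizerIn S U' := fun y hy => by
    obtain ⟨x, hx, rfl⟩ := hgC.surj hy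
    exact hg.map_mem_centralizerIn hgU le_sup_left (Subgroup.mem_sup_right hx) (H93.mem_centralizerIn.1 hx).2
  obtain ⟨χ, hχ, hχr, hχv⟩ := id hg
  have hle : U ⊔ centralizerIn S U ≤ ((hull S U').comap χ).map (U ⊔ centralizerIn S U).subtype := sup_le
    (fun x hx => ⟨⟨x, Subgroup.mem_sup_left hx⟩, Subgroup.mem_comap.2
      ((hχv ⟨x, Subgroup.mem_sup_left hx⟩).symm ▸ le_hull S U' (hgU.map_mem hx)), rfl⟩)
    (fun x hx => ⟨⟨x, Subgroup.mem_sup_right hx⟩, Subgroup.mem_comap.2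
      ((hχv ⟨x, Subgroup.mem_sup_right hx⟩).symm ▸ centralizerIn_le_hull S U' (hC (hgC.map_mem hx))), rfl⟩)
  have hM : M ≤ hull S U' := fun y hy => by
    obtain ⟨x, hx, rfl⟩ := hg.surj hy
    obtain ⟨z, hz, rfl⟩ := hle hx
    exact hχv z ▸ hz
  refine ⟨g, hge, M, hM, hg, fun hU => le_antisymm hM (sup_le ?_ ?_)⟩
  · intro y hy
    obtain ⟨x, hx, rfl⟩ := hgU.surj hy
    exact hg.map_mem (Subgroup.mem_sup_left hx)
  · have hfin : Finite ↥(centralizerIn S U') := H96.finite_of_le (S := S) inf_le_left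
    rw [← Subgroup.eq_of_le_of_card_ge hC (by
      rw [← hgC.card_eq]
      exact hU.2 U' hφ.isConj)]
    exact hCM

theorem Data.left_le (h : Data p F E₁ E₂) : T₁ ≤ S := h.left.2.2.2.1.1

omit [Finite S] [Fact p.Prime] in
theorem Data.closed (h : Data p F E₁ E₂) : F.StronglyClosed (T₁ ⊓ T₂) := by
  refine ⟨inf_le_left.trans h.left.2.2.2.1.1, fun P hP φ hφ x => ?_⟩
  exact ⟨h.left.2.2.2.1.2 P (hP.trans inf_le_left) φ hφ x, h.right.2.2.2.1.2 P (hP.trans inf_le_right) φ hφ x⟩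

omit [Fact p.Prime] [Finite S] in
theorem Data.le (h : Data p F E₁ E₂) : T₁ ⊓ T₂ ≤ S := h.closed.1

/-- Transport of an automorphism in an invariant subsystem. -/
theorem actsIn_conj {W : Subgroup Ω} {E : FusionSystem W} (hE : E.IsInvariantIn F) {U U' : Subgroup Ω}
    (hUW : U ≤ W) {φ : Ω → Ω} (hφ : Mor F U U' φ) {a : MulAut U} (ha : ActsIn E U a) {a' : MulAut U'}
    (he : ∀ x : U, φ ((a x : U) : Ω) = ((a' ⟨φ x, hφ.map_mem x.2⟩ : U') : Ω)) : ActsIn E U' a' := by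
  obtain ⟨f, hf, hfe⟩ := ha
  obtain ⟨k, hk, hkr, hkv⟩ := id hf
  obtain ⟨ψ, hψ, hψr, hψv⟩ := id hφ
  obtain ⟨χ, hχ, hχe⟩ := stronglyInvariant_of_invariant hE U U le_rfl hUW k hk
    (fun x => hkr.le ⟨x, rfl⟩) ψ hψ
  have heq : U' = (U.subgroupOf U).map ψ := by
    rw [← hψr, MonoidHom.range_eq_map, Subgroup.subgroupOf_self]
  have hmem := H93.mem_of_eq hχ heq (ψ := U'.subtype.comp a'.toMonoidHom) fun y hy hy2 => by
    obtain ⟨x, hx, rfl⟩ := hφ.surj hy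
    have h1 : φ x = ψ (Subgroup.inclusion (le_refl U) ⟨x, hx⟩) := (hψv ⟨x, hx⟩).symm
    refine Eq.trans (he ⟨x, hx⟩).symm ?_
    rw [show (⟨φ x, hy2⟩ : (U.subgroupOf U).map ψ) = ⟨_, h1 ▸ hy2⟩ from Subtype.ext h1,
      hχe ⟨x, hx⟩ (h1 ▸ hy2), hψv]
    show φ ((a ⟨x, hx⟩ : U) : Ω) = φ (k ⟨x, hx⟩)
    rw [hkv, hfe]
  obtain ⟨f', hf', hfe'⟩ := H93.exists_mor hmem (Y := U') (by
    refine le_antisymm (fun y ⟨x, hx⟩ => hx ▸ (a' x).2) fun y hy => ?_
    exact ⟨a'.symm ⟨y, hy⟩, congrArg Subtype.val (a'.apply_symm_apply _)⟩)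
  exact ⟨f', hf', hfe'⟩

/-- The conjugate of an automorphism along a map. -/
theorem exists_conjAut {U U' : Subgroup Ω} {φ : Ω → Ω} (hφ : Mor F U U' φ) (a : MulAut U) :
    ∃ a' : MulAut U', ∀ x : U, φ ((a x : U) : Ω) = ((a' ⟨φ x, hφ.map_mem x.2⟩ : U') : Ω) := by
  obtain ⟨ψ, hψ, hψr, hψv⟩ := id hφ
  let e : U ≃* U' := H93.homEquiv ψ (F.injective_of_mem hψ) hψr
  have hee : ∀ x : U, ((e x : U') : Ω) = φ x := fun x => hψv x
  refine ⟨(e.symm.trans a).trans e, fun x => ?_⟩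
  show φ _ = ((e (a (e.symm ⟨φ x, _⟩)) : U') : Ω)
  rw [show (⟨φ x, hφ.map_mem x.2⟩ : U') = e x from Subtype.ext (hee x).symm, e.symm_apply_apply, hee]

/-- Congruence at one fully centralized conjugate gives congruence at all. -/
theorem congAt_of_congAt (hS : IsPGroup p S) (hF : F.IsSaturated p) (hT : F.StronglyClosed T)
    {U U₁ U₂ : Subgroup Ω} (hU : TCentric F T U) {φ₁ φ₂ : Ω → Ω} (h₁ : Mor F U U₁ φ₁) (h₂ : Mor F U U₂ φ₂)
    (hU₁ : F.IsFullyCentralized U₁) (hU₂ : F.IsFullyCentralized U₂) {a : MulAut U}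
    (h : CongAt F T U U₁ φ₁ a) : CongAt F T U U₂ φ₂ a := by
  obtain ⟨g, hg, hga, hgc⟩ := h
  obtain ⟨i₁, hi₁, hi₁1, -⟩ := h₁.exists_inv
  obtain ⟨k, hke, M, -, hk, hM⟩ := exists_hull_map hS hF (h₂.comp hi₁) hU₂
  obtain rfl := hM hU₁
  obtain ⟨ki, hki, hki1, hki2⟩ := hk.exists_inv
  have hk1 : ∀ x : U, k (φ₁ x) = φ₂ x := fun x => by
    rw [hke _ (h₁.map_mem x.2)]
    show φ₂ (i₁ (φ₁ x)) = φ₂ x
    rw [hi₁1 x x.2]
  refine ⟨fun y => k (g (ki y)), hk.comp (hg.comp hki), fun x => ?_, fun y hy => ?_⟩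
  · show k (g (ki (φ₂ x))) = φ₂ ((a x : U) : Ω)
    rw [← hk1 x, hki1 _ (le_hull S U₁ (h₁.map_mem x.2)), hga, hk1]
  · obtain ⟨z, hz, rfl⟩ := hk.surj hy
    show (k z)⁻¹ * k (g (ki (k z))) ∈ T
    have hgz := hg.map_mem hz
    rw [hki1 z hz, ← hk.map_inv hz, ← hk.map_mul ((hull S U₁).inv_mem hz) hgz]
    have hw : z⁻¹ * g z ∈ U₁ :=
      (hU.of_mor hT h₁).mem_of_hull hT.1 ((hull S U₁).mul_mem ((hull S U₁).inv_mem hz) hgz) (hgc z hz)
    obtain ⟨x, hx, hxe⟩ := h₁.surj hw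
    rw [← hxe, hk1 ⟨x, hx⟩]
    exact (hU.of_mor hT h₂).1 (h₂.map_mem hx)

/-- Conjugation of maps of an invariant subsystem by maps of the ambient system. -/
theorem mor_conjugate {W : Subgroup Ω} {E : FusionSystem W} (hE : E.IsInvariantIn F) {X X' : Subgroup Ω}
    (hX : X ≤ W) {g k ki : Ω → Ω} (hg : Mor E X X g) (hk : Mor F X X' k) (hki : ∀ x ∈ X, ki (k x) = x) :
    Mor E X' X' (fun y => k (g (ki y))) := by
  obtain ⟨a, ha, hae⟩ := hg.exists_aut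
  obtain ⟨a', ha'⟩ := exists_conjAut hk a
  obtain ⟨f, hf, hfe⟩ := actsIn_conj hE hX hk ⟨g, hg, fun x => (hae x).symm⟩ ha'
  refine hf.congr fun y hy => ?_
  obtain ⟨x, hx, rfl⟩ := hk.surj hy
  show f (k x) = k (g (ki (k x)))
  rw [hki x hx, show f (k x) = _ from hfe ⟨k x, hk.map_mem hx⟩, ← ha' ⟨x, hx⟩, hae ⟨x, hx⟩]

/-- A map between hulls takes the part in a strongly closed subgroup to the corresponding one. -/
theorem hull_map_le (hT : F.StronglyClosed T) {U₁ U₂ : Subgroup Ω} (hU₂ : U₂ ≤ T) {k : Ω → Ω}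
    (hk : Mor F (hull S U₁) (hull S U₂) k) (hkU : Mor F U₁ U₂ k) {x : Ω} (hU₁ : U₁ ≤ T)
    (hx : x ∈ hull T U₁) : k x ∈ hull T U₂ := by
  have hle : hull T U₁ ≤ hull S U₁ := sup_le_sup le_rfl (inf_le_inf_right _ hT.1)
  obtain ⟨M, hM, hkM⟩ := hk.restrict hle
  obtain ⟨χ, hχ, hχr, hχv⟩ := id hkM
  have h : hull T U₁ ≤ ((hull T U₂).comap χ).map (hull T U₁).subtype := sup_le
    (fun y hy => ⟨⟨y, le_hull T U₁ hy⟩, Subgroup.mem_comap.2
      ((hχv ⟨y, le_hull T U₁ hy⟩).symm ▸ le_hull T U₂ (hkU.map_mem hy)), rfl⟩)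
    (fun y hy => ⟨⟨y, centralizerIn_le_hull T U₁ hy⟩, Subgroup.mem_comap.2
      ((hχv ⟨y, centralizerIn_le_hull T U₁ hy⟩).symm ▸ centralizerIn_le_hull T U₂ ⟨by
        rw [← show χ ⟨y, centralizerIn_le_hull T U₁ hy⟩ = k y from hχv _]
        exact H93.StronglyClosed.apply_mem hT hχ _ hy.1,
        (hk.map_mem_centralizerIn hkU (le_hull S U₁) (hle (centralizerIn_le_hull T U₁ hy))
          (H93.mem_centralizerIn.1 hy).2).2⟩), rfl⟩)
  obtain ⟨z, hz, rfl⟩ := h hx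
  exact hχv z ▸ hz

theorem mor_hull_restrict (hT : F.StronglyClosed T) {U₁ U₂ : Subgroup Ω} (hU₁ : U₁ ≤ T) (hU₂ : U₂ ≤ T)
    {k : Ω → Ω} (hk : Mor F (hull S U₁) (hull S U₂) k) (hkU : Mor F U₁ U₂ k) :
    Mor F (hull T U₁) (hull T U₂) k := by
  obtain ⟨ki, hki, hki1, hki2⟩ := hk.exists_inv
  have hkiU : Mor F U₂ U₁ ki := by
    refine hki.restrict_eq (le_hull S U₂) (fun y hy => ?_) fun x hx =>
      ⟨k x, hkU.map_mem hx, hki1 x (le_hull S U₁ hx)⟩
    obtain ⟨x, hx, rfl⟩ := hkU.surj hy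
    rwa [hki1 x (le_hull S U₁ hx)]
  have hle : ∀ U : Subgroup Ω, hull T U ≤ hull S U := fun U => sup_le_sup le_rfl (inf_le_inf_right _ hT.1)
  exact hk.restrict_eq (hle U₁) (fun x hx => hull_map_le hT hU₂ hk hkU hU₁ hx) fun y hy =>
    ⟨ki y, hull_map_le hT hU₁ hki hkiU hU₂ hy, hki2 y (hle U₂ hy)⟩

/-- An automorphism of order prime to `p` is in the invariant subsystem if it differs from one there by a
stabilizer of `Y`. -/
theorem mem_autGroup_of_stabilizes (hS : IsPGroup p S) {W : Subgroup Ω} {E : FusionSystem W}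
    (hE : E.IsInvariantIn F) (hWS : W ≤ S) {X Y : Subgroup Ω} (hX : X ≤ W) (hY : Y ≤ X) {g e : MulAut X}
    (hg : g ∈ F.autGroup X) (he : e ∈ E.autGroup X) (hgp : (orderOf g).Coprime p)
    (hag : ∀ x : X, (x : Ω) ∈ Y → g x = e x)
    (hdiff : ∀ x : X, ((g x : X) : Ω)⁻¹ * ((e x : X) : Ω) ∈ Y)
    (hgY : ∀ x : X, (x : Ω) ∈ Y → ((g⁻¹ x : X) : Ω) ∈ Y) : g ∈ E.autGroup X := by
  have hXS := hX.trans hWS
  obtain ⟨n, hn⟩ : ∃ n, n = g⁻¹ * e := ⟨_, rfl⟩
  have hnY : ∀ x : X, (x : Ω) ∈ Y → n x = x := fun x hx => by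
    rw [hn, MulAut.mul_apply, ← hag x hx]
    exact g.symm_apply_apply x
  have hnd : ∀ x : X, ((x⁻¹ * n x : X) : Ω) ∈ Y := fun x => by
    have h1 : x⁻¹ * n x = g⁻¹ ((g x)⁻¹ * e x) := by
      rw [map_mul, map_inv, hn, MulAut.mul_apply,
        show g⁻¹ (g x) = x from g.symm_apply_apply x]
    rw [h1]
    exact hgY _ (hdiff x)
  -- the difference is a p-element
  have hnp : ∃ j : ℕ, n ^ (p ^ j) = 1 := by
    have hpow : ∀ (m : ℕ) (x : X), (n ^ m) x = x * (x⁻¹ * n x) ^ m := by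
      intro m
      induction m with
      | zero => intro x; simp
      | succ m ih =>
        intro x
        have hm : (((x⁻¹ * n x) ^ m : X) : Ω) ∈ Y := by
          rw [SubgroupClass.coe_pow]; exact Subgroup.pow_mem _ (hnd x) m
        rw [pow_succ' n, MulAut.mul_apply, ih, map_mul, hnY _ hm, pow_succ' _ m, ← mul_assoc,
          mul_inv_cancel_left]
    have := H96.finite_of_le hXS
    obtain ⟨j, hj⟩ := (hS.to_le hXS).exists_card_eq
    refine ⟨j, MulEquiv.ext fun x => ?_⟩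
    rw [hpow, ← hj, pow_card_eq_one', mul_one]
    rfl
  obtain ⟨j, hj⟩ := hnp
  -- it is trivial in the quotient by the normal subgroup
  have hnorm : ∀ c ∈ F.autGroup X, ∀ b ∈ E.autGroup X, c * b * c⁻¹ ∈ E.autGroup X := fun c hc b hb => by
    obtain ⟨r, hr, hre⟩ := (actsIn_iff hXS).2 hc
    refine (actsIn_iff hX).1 (actsIn_conj hE hX hr ((actsIn_iff hX).2 hb) fun x => ?_)
    rw [show (⟨r (x : Ω), hr.map_mem x.2⟩ : X) = c x from Subtype.ext (hre x), hre]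
    simp
  obtain ⟨G, hG⟩ : ∃ G, G = F.autGroup X := ⟨_, rfl⟩
  obtain ⟨K, hK⟩ : ∃ K : Subgroup G, K = (E.autGroup X).subgroupOf G := ⟨_, rfl⟩
  have hKn : K.Normal := ⟨fun k hk c => by
    rw [hK, Subgroup.mem_subgroupOf] at hk ⊢
    exact hnorm _ (hG ▸ c.2) _ hk⟩
  have heF : e ∈ G := by
    rw [hG]
    exact (H96.mem_autGroup F hXS).2 (hE.1 X ((H96.mem_autGroup E hX).1 he))
  have hgG : g ∈ G := hG ▸ hg
  have hnG : n ∈ G := hn ▸ mul_mem (inv_mem hgG) heF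
  have heq : (QuotientGroup.mk ⟨g, hgG⟩ : G ⧸ K) = (QuotientGroup.mk ⟨n, hnG⟩)⁻¹ := by
    rw [eq_inv_iff_mul_eq_one, ← QuotientGroup.mk_mul, QuotientGroup.eq_one_iff, hK, Subgroup.mem_subgroupOf]
    show g * n ∈ _
    rw [hn, mul_inv_cancel_left]
    exact he
  obtain ⟨q, hq⟩ : ∃ q : G ⧸ K, q = QuotientGroup.mk ⟨g, hgG⟩ := ⟨_, rfl⟩
  have h1 : orderOf q ∣ orderOf g := by
    refine orderOf_dvd_of_pow_eq_one ?_
    rw [hq, ← QuotientGroup.mk_pow]
    refine (congrArg QuotientGroup.mk (show (⟨g, hgG⟩ : G) ^ orderOf g = 1 from Subtype.ext ?_)).trans rfl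
    rw [Subgroup.coe_pow, pow_orderOf_eq_one]
    rfl
  have h2 : orderOf q ∣ p ^ j := by
    refine orderOf_dvd_of_pow_eq_one ?_
    rw [hq, heq, inv_pow, ← QuotientGroup.mk_pow, inv_eq_one]
    refine (congrArg QuotientGroup.mk (show (⟨n, hnG⟩ : G) ^ (p ^ j) = 1 from Subtype.ext ?_)).trans rfl
    rw [Subgroup.coe_pow, hj]
    rfl
  have h3 : orderOf q = 1 := Nat.eq_one_of_dvd_coprimes (hgp.pow_right j) h1 h2
  rw [orderOf_eq_one_iff, hq, QuotientGroup.eq_one_iff, hK, Subgroup.mem_subgroupOf] at h3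
  exact h3

/-- Congruence in both subsystems at one fully centralized conjugate gives it at all. -/
theorem congIn_of_congIn (h : Data p F E₁ E₂) {U U₁ U₂ : Subgroup Ω} (hU : TCentric F (T₁ ⊓ T₂) U)
    {φ₁ φ₂ : Ω → Ω} (h₁ : Mor F U U₁ φ₁) (h₂ : Mor F U U₂ φ₂)
    (hU₁ : F.IsFullyCentralized U₁) (hU₂ : F.IsFullyCentralized U₂) {a : MulAut U}
    (hc : CongIn F E₁ E₂ U U₁ φ₁ a) : CongIn F E₁ E₂ U U₂ φ₂ a := by
  have hT := h.closed
  obtain ⟨g, hg, hga, hgc, hg1, hg2⟩ := hc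
  obtain ⟨i₁, hi₁, hi₁1, -⟩ := h₁.exists_inv
  obtain ⟨k, hke, M, -, hk, hM⟩ := exists_hull_map h.isPGroup h.saturated (h₂.comp hi₁) hU₂
  obtain rfl := hM hU₁
  obtain ⟨ki, hki, hki1, hki2⟩ := hk.exists_inv
  have hk1 : ∀ x : U, k (φ₁ x) = φ₂ x := fun x => by
    rw [hke _ (h₁.map_mem x.2)]
    show φ₂ (i₁ (φ₁ x)) = φ₂ x
    rw [hi₁1 x x.2]
  have hkU : Mor F U₁ U₂ k := (h₂.comp hi₁).congr fun y hy => (hke y hy).symm
  have hU₁T := (hU.of_mor hT h₁).1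
  have hU₂T := (hU.of_mor hT h₂).1
  have hpart : ∀ {W : Subgroup Ω} {E : FusionSystem W}, E.IsInvariantIn F → T₁ ⊓ T₂ ≤ W →
      Mor E (hull W U₁) (hull W U₁) g → Mor E (hull W U₂) (hull W U₂) (fun y => k (g (ki y))) := by
    intro W E hE hW hgW
    exact mor_conjugate hE (sup_le (hU₁T.trans hW) inf_le_left) hgW
      (mor_hull_restrict hE.2.1 (hU₁T.trans hW) (hU₂T.trans hW) hk hkU)
      fun x hx => hki1 x (sup_le_sup le_rfl (inf_le_inf_right _ hE.2.1.1) hx)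
  refine ⟨fun y => k (g (ki y)), hk.comp (hg.comp hki), fun x => ?_, fun y hy => ?_,
    hpart h.left.2.2 inf_le_left hg1, hpart h.right.2.2 inf_le_right hg2⟩
  · show k (g (ki (φ₂ x))) = φ₂ ((a x : U) : Ω)
    rw [← hk1 x, hki1 _ (le_hull S U₁ (h₁.map_mem x.2)), hga, hk1]
  · obtain ⟨z, hz, rfl⟩ := hk.surj hy
    show (k z)⁻¹ * k (g (ki (k z))) ∈ T₁ ⊓ T₂
    have hgz := hg.map_mem hz
    rw [hki1 z hz, ← hk.map_inv hz, ← hk.map_mul ((hull S U₁).inv_mem hz) hgz]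
    have hw : z⁻¹ * g z ∈ U₁ :=
      (hU.of_mor hT h₁).mem_of_hull hT.1 ((hull S U₁).mul_mem ((hull S U₁).inv_mem hz) hgz) (hgc z hz)
    obtain ⟨x, hx, hxe⟩ := h₁.surj hw
    rw [← hxe, hk1 ⟨x, hx⟩]
    exact hU₂T (h₂.map_mem hx)

omit [Finite S] [Fact p.Prime] in
theorem le_of_mor_closed {W : Subgroup Ω} (hW : F.StronglyClosed W) {U U' : Subgroup Ω} {φ : Ω → Ω}
    (hφ : Mor F U U' φ) (hU : U ≤ W) : U' ≤ W := by
  intro y hy
  obtain ⟨x, hx, rfl⟩ := hφ.surj hy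
  obtain ⟨ψ, hψ, -, hv⟩ := hφ
  rw [← hv ⟨x, hx⟩]
  exact H93.StronglyClosed.apply_mem hW hψ ⟨x, hx⟩ (hU hx)

/-- The good automorphisms form a group. -/
def bGroup (F : FusionSystem S) (E₁ : FusionSystem T₁) (E₂ : FusionSystem T₂) (U : Subgroup Ω)
    (h0 : U ≤ S) (h1 : U ≤ T₁) (h2 : U ≤ T₂) (hc₁ : F.StronglyClosed T₁) (hc₂ : F.StronglyClosed T₂) :
    Subgroup (MulAut U) where
  carrier := {a | BGood F E₁ E₂ U a}
  one_mem' := by
    refine ⟨(actsIn_iff h0).2 (one_mem _), (actsIn_iff h1).2 (one_mem _), (actsIn_iff h2).2 (one_mem _),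
      fun U' φ hφ hU' => ⟨fun y => y, Mor.id F (hull_le hφ.le_right), fun x => rfl, fun y hy => ?_,
        Mor.id E₁ (hull_le (le_of_mor_closed hc₁ hφ h1)), Mor.id E₂ (hull_le (le_of_mor_closed hc₂ hφ h2))⟩⟩
    rw [inv_mul_cancel]
    exact one_mem _
  mul_mem' := by
    rintro a b ⟨a0, a1, a2, ac⟩ ⟨b0, b1, b2, bc⟩
    refine ⟨(actsIn_iff h0).2 (mul_mem ((actsIn_iff h0).1 a0) ((actsIn_iff h0).1 b0)),
      (actsIn_iff h1).2 (mul_mem ((actsIn_iff h1).1 a1) ((actsIn_iff h1).1 b1)),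
      (actsIn_iff h2).2 (mul_mem ((actsIn_iff h2).1 a2) ((actsIn_iff h2).1 b2)), fun U' φ hφ hU' => ?_⟩
    obtain ⟨g, hg, hga, hgc, hg1, hg2⟩ := ac U' φ hφ hU'
    obtain ⟨k, hk, hkb, hkc, hk1, hk2⟩ := bc U' φ hφ hU'
    refine ⟨fun y => g (k y), hg.comp hk, fun x => ?_, fun y hy => ?_, hg1.comp hk1, hg2.comp hk2⟩
    · show g (k (φ x)) = _
      rw [hkb, hga]
      rfl
    · have h := Subgroup.mul_mem _ (hkc y hy) (hgc (k y) (hk.map_mem hy))
      rwa [mul_assoc, mul_inv_cancel_left] at h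
  inv_mem' := by
    rintro a ⟨a0, a1, a2, ac⟩
    refine ⟨(actsIn_iff h0).2 (inv_mem ((actsIn_iff h0).1 a0)), (actsIn_iff h1).2 (inv_mem ((actsIn_iff h1).1 a1)),
      (actsIn_iff h2).2 (inv_mem ((actsIn_iff h2).1 a2)), fun U' φ hφ hU' => ?_⟩
    obtain ⟨g, hg, hga, hgc, hg1, hg2⟩ := ac U' φ hφ hU'
    obtain ⟨gi, hgi, hgi1, hgi2⟩ := hg.exists_inv
    have hres : ∀ {W : Subgroup Ω} (E : FusionSystem W), W ≤ S → Mor E (hull W U') (hull W U') g →
        Mor E (hull W U') (hull W U') gi := fun {W} E hW hgW => by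
      obtain ⟨f, hf, hf1, hf2⟩ := hgW.exists_inv
      refine hf.congr fun y hy => ?_
      obtain ⟨x, hx, rfl⟩ := hgW.surj hy
      rw [hf1 x hx, hgi1 x (sup_le_sup le_rfl (inf_le_inf_right _ hW) hx)]
    refine ⟨gi, hgi, fun x => ?_, fun y hy => ?_, hres E₁ hc₁.1 hg1, hres E₂ hc₂.1 hg2⟩
    · have h := hga (a⁻¹ x)
      rw [show a (a⁻¹ x) = x from a.apply_symm_apply x] at h
      rw [← h, hgi1 _ (le_hull S U' (hφ.map_mem (a⁻¹ x).2))]
    · have h := Subgroup.inv_mem _ (hgc (gi y) (hgi.map_mem hy))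
      rwa [hgi2 y hy, mul_inv_rev, inv_inv] at h

omit [Finite S] [Fact p.Prime] in
theorem mem_bGroup {U : Subgroup Ω} {h0 : U ≤ S} {h1 : U ≤ T₁} {h2 : U ≤ T₂} {hc₁ : F.StronglyClosed T₁}
    {hc₂ : F.StronglyClosed T₂} {a : MulAut U} :
    a ∈ bGroup F E₁ E₂ U h0 h1 h2 hc₁ hc₂ ↔ BGood F E₁ E₂ U a := Iff.rfl

/-- The good automorphisms are permuted by the maps of the ambient system. -/
theorem bGood_conj (h : Data p F E₁ E₂) {U U' : Subgroup Ω} (hU : U ≤ T₁ ⊓ T₂) {φ : Ω → Ω}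
    (hφ : Mor F U U' φ) {a : MulAut U} (ha : BGood F E₁ E₂ U a) {a' : MulAut U'}
    (he : ∀ x : U, φ ((a x : U) : Ω) = ((a' ⟨φ x, hφ.map_mem x.2⟩ : U') : Ω)) : BGood F E₁ E₂ U' a' := by
  obtain ⟨a0, a1, a2, ac⟩ := ha
  refine ⟨?_, actsIn_conj h.left.2.2 (hU.trans inf_le_left) hφ a1 he,
    actsIn_conj h.right.2.2 (hU.trans inf_le_right) hφ a2 he, fun U'' ψ hψ hU'' => ?_⟩
  · obtain ⟨f, hf, hfe⟩ := a0
    obtain ⟨φi, hφi, hφi1, -⟩ := hφ.exists_inv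
    refine ⟨_, hφ.comp (hf.comp hφi), fun x => ?_⟩
    obtain ⟨z, hz, hze⟩ := hφ.surj x.2
    rw [show x = ⟨φ z, hφ.map_mem hz⟩ from Subtype.ext hze.symm, ← he ⟨z, hz⟩, ← hfe]
    show φ (f (φi (φ z))) = φ (f z)
    rw [hφi1 z hz]
  · obtain ⟨g, hg, hga, hgc⟩ := ac U'' _ (hψ.comp hφ) hU''
    refine ⟨g, hg, fun x => ?_, hgc⟩
    obtain ⟨z, hz, hze⟩ := hφ.surj x.2
    rw [show x = ⟨φ z, hφ.map_mem hz⟩ from Subtype.ext hze.symm, ← he ⟨z, hz⟩]
    exact hga ⟨z, hz⟩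

theorem meetAut_le_of_gens {U : Subgroup Ω} {K : Subgroup (MulAut U)}
    (h : meetSet p F E₁ E₂ U ⊆ K) : meetAut p F E₁ E₂ U ≤ K :=
  (Subgroup.closure_le K).2 h

/-- Conjugates of automorphisms induced by elements of the intersection are good. -/
theorem bGood_of_conjInner (h : Data p F E₁ E₂) {U : Subgroup Ω} (hU : TCentric F (T₁ ⊓ T₂) U) {a : MulAut U}
    (ha : ConjInner F (T₁ ⊓ T₂) U a) : BGood F E₁ E₂ U a := by
  obtain ⟨U', φ, t, hφ, ht, he⟩ := ha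
  have hU' := hU.of_mor h.closed hφ
  obtain ⟨φi, hφi, hφi1, -⟩ := hφ.exists_inv
  have hU'S : U' ≤ S := hφ.le_right
  have htN : ∀ {W : Subgroup Ω}, T₁ ⊓ T₂ ≤ W → t ∈ normalizerIn W U' := fun hW => ⟨hW ht.1, ht.2⟩
  obtain ⟨b, hb, hbe⟩ := exists_autInducedBy (P := U') ht.1 ht.2
  have hU'fin := H96.finite_of_le hU'S
  have hb0 : ∀ {W : Subgroup Ω} (E : FusionSystem W), T₁ ⊓ T₂ ≤ W → ActsIn E U' b := fun E hW =>
    ⟨_, H93.mor_conj E (hU'.1.trans hW) (htN hW), fun x => (hbe x).symm⟩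
  have hbc : BGood F E₁ E₂ U' b := by
    refine ⟨hb0 F h.le, hb0 E₁ inf_le_left, hb0 E₂ inf_le_right, fun U'' ψ hψ hU'' => ?_⟩
    -- compare with a fully normalized conjugate
    obtain ⟨U₀, hconj, hU₀⟩ := H93.exists_isFullyNormalized F hU'S
    obtain ⟨π, hπ, -, himg⟩ := H93.exists_map_to_fullyNormalized h.isPGroup h.saturated hU₀ hconj
    obtain ⟨f, hf, hfe⟩ := H93.exists_mor hπ rfl
    have hU'N := H93.le_normalizerIn hU'S
    have hfU : Mor F U' U₀ f := by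
      refine hf.restrict_eq hU'N (fun x hx => ?_) fun y hy => ?_
      · rw [show f x = _ from hfe ⟨x, hU'N hx⟩, ← himg]
        exact H93.apply_mem_imgIn hx
      · rw [← himg] at hy
        obtain ⟨x, hx, rfl⟩ := H93.mem_imgIn.1 hy
        exact ⟨x, hx, hfe x⟩
    have htS := htN (le_refl _ |>.trans h.le)
    have ht0 : f t ∈ normalizerIn S U₀ := hf.map_mem_normalizerIn hfU hU'N htS ht.2
    have ht0T : f t ∈ T₁ ⊓ T₂ := by
      rw [show f t = _ from hfe ⟨t, htS⟩]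
      exact H93.StronglyClosed.apply_mem h.closed hπ ⟨t, htS⟩ ht.1
    have hU₀c := fullyNormalized_fullyCentralized h.isPGroup h.saturated hU₀
    refine congIn_of_congIn h hU' hfU hψ hU₀c hU'' ?_
    have hH : hull S U₀ ≤ S := hull_le hU₀.1
    have htH : f t ∈ Subgroup.normalizer (hull S U₀ : Set Ω) := by
      have := H96.finite_of_le hH
      refine mem_normalizer_of_forall_conj_mem fun y hy => ?_
      have hle : hull S U₀ ≤ (hull S U₀).comap (MulAut.conj (f t)).toMonoidHom := by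
        refine sup_le (fun x hx => le_hull S U₀ (H93.mem_normalizerIn_conj ht0 hx)) fun c hc => ?_
        refine centralizerIn_le_hull S U₀ (H93.mem_centralizerIn.2 ⟨?_, fun u hu => ?_⟩)
        · exact S.mul_mem (S.mul_mem ht0.1 hc.1) (S.inv_mem ht0.1)
        · have hu' : (f t)⁻¹ * u * f t ∈ U₀ := by
            simpa using H93.mem_normalizerIn_conj (Subgroup.inv_mem _ ht0) hu
          have h' := (H93.mem_centralizerIn.1 hc).2 _ hu'
          simp only [MulEquiv.coe_toMonoidHom, MulAut.conj_apply]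
          calc f t * c * (f t)⁻¹ * u * (f t * c * (f t)⁻¹)⁻¹
              = f t * (c * ((f t)⁻¹ * u * f t) * c⁻¹) * (f t)⁻¹ := by group
            _ = u := by rw [h']; group
      exact hle hy
    have hU₀T := (hU'.of_mor h.closed hfU).1
    have htW : ∀ {W : Subgroup Ω} (E : FusionSystem W), W ≤ S → T₁ ⊓ T₂ ≤ W →
        Mor E (hull W U₀) (hull W U₀) (fun y => f t * y * (f t)⁻¹) := fun {W} E hWS hW => by
      have hHW : hull W U₀ ≤ W := sup_le (hU₀T.trans hW) inf_le_left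
      refine H93.mor_conj E hHW ⟨hW ht0T, ?_⟩
      have hfW : Finite ↥(hull W U₀) :=
        H96.finite_of_le (S := S) (sup_le hU₀.1 (inf_le_left.trans hWS))
      refine mem_normalizer_of_forall_conj_mem fun y hy => ?_
      have hle : hull W U₀ ≤ (hull W U₀).comap (MulAut.conj (f t)).toMonoidHom := by
        refine sup_le (fun x hx => le_hull W U₀ (H93.mem_normalizerIn_conj ht0 hx)) fun c hc => ?_
        refine centralizerIn_le_hull W U₀ (H93.mem_centralizerIn.2 ⟨?_, fun u hu => ?_⟩)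
        · exact W.mul_mem (W.mul_mem (hW ht0T) hc.1) (W.inv_mem (hW ht0T))
        · have hu' : (f t)⁻¹ * u * f t ∈ U₀ := by
            simpa using H93.mem_normalizerIn_conj (Subgroup.inv_mem _ ht0) hu
          have h' := (H93.mem_centralizerIn.1 hc).2 _ hu'
          simp only [MulEquiv.coe_toMonoidHom, MulAut.conj_apply]
          calc f t * c * (f t)⁻¹ * u * (f t * c * (f t)⁻¹)⁻¹
              = f t * (c * ((f t)⁻¹ * u * f t) * c⁻¹) * (f t)⁻¹ := by group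
            _ = u := by rw [h']; group
      exact hle hy
    refine ⟨_, H93.mor_conj F hH ⟨ht0.1, htH⟩, fun x => ?_, fun y hy => ?_, htW E₁ h.left.2.2.2.1.1 inf_le_left,
      htW E₂ h.right.2.2.2.1.1 inf_le_right⟩
    · show f t * f x * (f t)⁻¹ = _
      rw [← hf.map_conj htS (hU'N x.2), hbe x]
    · show y⁻¹ * (f t * y * (f t)⁻¹) ∈ _
      have hn := H93.StronglyClosed.le_normalizer h.closed (hH hy)
      have h2 := (Subgroup.mem_normalizer_iff.1 ((Subgroup.normalizer _).inv_mem hn) (f t)).1 ht0T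
      have h3 := Subgroup.mul_mem _ h2 (Subgroup.inv_mem _ ht0T)
      simpa [mul_assoc] using h3
  refine bGood_conj h hU'.1 hφi hbc fun x => ?_
  obtain ⟨z, hz, hze⟩ := hφ.surj x.2
  rw [hbe, show (⟨φi (x : Ω), hφi.map_mem x.2⟩ : U) = ⟨z, hz⟩ from
    Subtype.ext ((congrArg φi hze.symm).trans (hφi1 z hz)), ← hze, ← he ⟨z, hz⟩]
  exact hφi1 _ (a ⟨z, hz⟩).2

theorem bGood_of_mem_meetAut (h : Data p F E₁ E₂) {U : Subgroup Ω} (hU : TCentric F (T₁ ⊓ T₂) U) {a : MulAut U}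
    (ha : a ∈ meetAut p F E₁ E₂ U) : BGood F E₁ E₂ U a := by
  refine (mem_bGroup (h0 := hU.1.trans h.le) (h1 := hU.1.trans inf_le_left)
    (h2 := hU.1.trans inf_le_right) (hc₁ := h.left.2.2.2.1) (hc₂ := h.right.2.2.2.1)).1 (meetAut_le_of_gens ?_ ha)
  rintro b (⟨hb, -⟩ | hb)
  · exact hb
  · exact bGood_of_conjInner h hU hb

theorem meetAut_le_autGroup (h : Data p F E₁ E₂) {U : Subgroup Ω} (hU : TCentric F (T₁ ⊓ T₂) U) :
    meetAut p F E₁ E₂ U ≤ F.autGroup U :=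
  fun _ ha => (actsIn_iff (hU.1.trans h.le)).1 (bGood_of_mem_meetAut h hU ha).1

/-- The automizers of the meet are permuted by the maps of the ambient system. -/
theorem meetAut_conj (h : Data p F E₁ E₂) {U U' : Subgroup Ω} (hU : U ≤ T₁ ⊓ T₂) {φ : Ω → Ω}
    (hφ : Mor F U U' φ) {a : MulAut U} (ha : a ∈ meetAut p F E₁ E₂ U) {a' : MulAut U'}
    (he : ∀ x : U, φ ((a x : U) : Ω) = ((a' ⟨φ x, hφ.map_mem x.2⟩ : U') : Ω)) :
    a' ∈ meetAut p F E₁ E₂ U' := by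
  obtain ⟨ψ, hψ, hψr, hψv⟩ := id hφ
  obtain ⟨e, hee⟩ : ∃ e : U ≃* U', ∀ x : U, ((e x : U') : Ω) = φ x :=
    ⟨H93.homEquiv ψ (F.injective_of_mem hψ) hψr, fun x => hψv x⟩
  have hconj : ∀ (b : MulAut U) (x : U),
      φ ((b x : U) : Ω) = (((MulAut.congr e b) ⟨φ x, hφ.map_mem x.2⟩ : U') : Ω) := fun b x => by
    show _ = ((e (b (e.symm ⟨φ x, _⟩)) : U') : Ω)
    rw [show (⟨φ x, hφ.map_mem x.2⟩ : U') = e x from Subtype.ext (hee x).symm, e.symm_apply_apply, hee]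
  have haa : a' = MulAut.congr e a := MulEquiv.ext fun y => by
    obtain ⟨z, hz, hze⟩ := hφ.surj y.2
    rw [show y = ⟨φ z, hφ.map_mem hz⟩ from Subtype.ext hze.symm]
    exact Subtype.ext ((he ⟨z, hz⟩).symm.trans (hconj a ⟨z, hz⟩))
  have hle : (meetAut p F E₁ E₂ U).map (MulAut.congr e).toMonoidHom ≤ meetAut p F E₁ E₂ U' := by
    rw [meetAut, MonoidHom.map_closure, Subgroup.closure_le]
    rintro _ ⟨b, hb | ⟨V, χ, t, hχ, ht, hbt⟩, rfl⟩
    · refine Subgroup.subset_closure (Or.inl ⟨bGood_conj h hU hφ hb.1 (hconj b), ?_⟩)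
      rw [MulEquiv.coe_toMonoidHom, MulEquiv.orderOf_eq]
      exact hb.2
    · obtain ⟨φi, hφi, hφi1, -⟩ := hφ.exists_inv
      refine Subgroup.subset_closure (Or.inr ⟨V, fun y => χ (φi y), t, hχ.comp hφi, ht, fun y => ?_⟩)
      obtain ⟨z, hz, hze⟩ := hφ.surj y.2
      rw [show y = ⟨φ z, hφ.map_mem hz⟩ from Subtype.ext hze.symm]
      show χ (φi (((MulAut.congr e b) ⟨φ z, hφ.map_mem hz⟩ : U') : Ω)) = t * χ (φi (φ z)) * t⁻¹
      rw [← hconj b ⟨z, hz⟩, hφi1 _ (b ⟨z, hz⟩).2, hφi1 z hz]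
      exact hbt ⟨z, hz⟩
  exact haa ▸ hle ⟨a, ha, rfl⟩

/-- Inner automorphisms from the intersection are in the automizer of the meet. -/
theorem mem_meetAut_of_conj {U : Subgroup Ω} (hU : U ≤ S) {a : MulAut U} {t : Ω}
    (ht : t ∈ normalizerIn (T₁ ⊓ T₂) U) (he : ∀ x : U, ((a x : U) : Ω) = t * x * t⁻¹) :
    a ∈ meetAut p F E₁ E₂ U :=
  Subgroup.subset_closure (Or.inr ⟨U, fun x => x, t, Mor.id F hU, ht, he⟩)

end Cfsg.Agent.H94.Meet
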