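import Cfsg.Agent.H94.Meet.Saturated

/-! The meet is normal in the ambient system and in both subsystems, and is the largest such subsystem. -/

set_option autoImplicit false
set_option linter.unusedSectionVars false

namespace Cfsg.Agent.H94.Meet

open Cfsg Cfsg.FusionSystem
open Cfsg.Agent.H93 (Mor)

variable {Ω : Type*} [Group Ω] {S T₁ T₂ W : Subgroup Ω} {F : FusionSystem S} {E₁ : FusionSystem T₁}
  {E₂ : FusionSystem T₂} {E : FusionSystem W} {p : ℕ} [Finite S] [Fact p.Prime]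

/-- A strongly closed subgroup is mapped onto itself by maps defined on it. -/
theorem range_eq_of_closed {T : Subgroup Ω} (hT : F.StronglyClosed T) {T' : Subgroup Ω} {f : Ω → Ω}
    (hf : Mor F T T' f) : T' = T := by
  have := H96.finite_of_le hT.1
  exact Subgroup.eq_of_le_of_card_ge (le_of_mor_closed hT hf le_rfl) hf.card_eq.le

theorem stronglyClosed_fullyCentralized {T : Subgroup Ω} (hT : F.StronglyClosed T) : F.IsFullyCentralized T := by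
  refine ⟨hT.1, fun U hU => ?_⟩
  obtain ⟨φ, hφ, hr⟩ := hU
  obtain ⟨f, hf, -⟩ := H93.exists_mor hφ hr
  rw [range_eq_of_closed hT hf]

/-- The invariance of the meet in a system with the Frattini property for it. -/
theorem meet_isInvariantIn (h : Hyps p F E₁ E₂) (hE : E.IsInvariantIn F) (hEs : E.IsSaturated p)
    (hW : T₁ ⊓ T₂ ≤ W) (hsub : (meetSystem p F E₁ E₂ h.le).IsSubsystemOf E) :
    (meetSystem p F E₁ E₂ h.le).IsInvariantIn E := by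
  have hd : Data p F E₁ E₂ := h.toData
  have hT : E.StronglyClosed (T₁ ⊓ T₂) :=
    ⟨hW, fun R hR φ hφ x => hd.closed.2 R hR φ (hE.1 R hφ) x⟩
  refine ⟨hsub, hT, fun P hPT φ hφ α hα => ?_, fun P hP φ hφ => ?_⟩
  · obtain ⟨a, ha, hae⟩ := H93.exists_mor_of_aut hW hα
    have haF : Mor F (T₁ ⊓ T₂) (T₁ ⊓ T₂) a := mor_sub hE.1 ha
    obtain ⟨f, hf, hfe⟩ := H93.exists_mor hφ rfl
    obtain ⟨V, -, hV⟩ := haF.restrict hPT
    obtain ⟨V', -, hV'⟩ := haF.restrict hf.le_right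
    obtain ⟨g, hg, hge⟩ := mor_meet_conj hd haF P φ.range f hf V V' hV hV'
    have hVeq : V = (P.subgroupOf (T₁ ⊓ T₂)).map ((T₁ ⊓ T₂).subtype.comp α.toMonoidHom) := by
      ext y
      constructor
      · intro hy
        obtain ⟨x, hx, rfl⟩ := hV.surj hy
        exact ⟨⟨x, hPT hx⟩, hx, (hae ⟨x, hPT hx⟩).symm⟩
      · rintro ⟨x, hx, rfl⟩
        show ((α x : ↥(T₁ ⊓ T₂)) : Ω) ∈ V
        rw [← hae]
        exact hV.map_mem hx
    rw [← hVeq]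
    obtain ⟨χ, hχ, -, hχv⟩ := hg
    refine ⟨χ, hχ, fun x hφx hαx => ?_⟩
    rw [hχv]
    show g ((α ⟨x, hPT x.2⟩ : ↥(T₁ ⊓ T₂)) : Ω) = _
    rw [← hae, hge x x.2, hfe, show a (φ x) = _ from hae ⟨φ x, hφx⟩]
  · have hFr : ∀ (P P' : Subgroup Ω) (f : Ω → Ω), P ≤ T₁ ⊓ T₂ → Mor F P P' f → ∃ (a e : Ω → Ω) (Z : Subgroup Ω),
        Mor F (T₁ ⊓ T₂) (T₁ ⊓ T₂) a ∧ Mor E P Z e ∧ ∀ x ∈ P, f x = a (e x) := by
      intro P P' f hP hf
      obtain ⟨ψ, hψ, -, hψv⟩ := id hf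
      obtain ⟨α, hα, φ₀, hφ₀, he⟩ := hE.2.2.2 P (hP.trans hW) ψ hψ
      obtain ⟨a, ha, hae⟩ := H93.exists_mor_of_aut hE.2.1.1 hα
      obtain ⟨e, he', hee⟩ := H93.exists_mor hφ₀ rfl
      obtain ⟨T', -, haT⟩ := ha.restrict hW
      obtain rfl := range_eq_of_closed hd.closed haT
      refine ⟨a, e, _, haT, he', fun x hx => ?_⟩
      have hxW : φ₀ ⟨x, hx⟩ ∈ W := (E.le_of_mem hφ₀).2 _
      rw [← hψv ⟨x, hx⟩, he ⟨x, hx⟩ hxW, show e x = φ₀ ⟨x, hx⟩ from hee ⟨x, hx⟩]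
      exact (hae ⟨_, hxW⟩).symm
    obtain ⟨f, hf, hfe⟩ := H93.exists_mor hφ rfl
    obtain ⟨a, d, Z, ha, hdm, hdec⟩ := exists_decomposition hd h.sylow hEs hE.1 hT hFr hP hf
    obtain ⟨α, hα, hαe⟩ := ha.exists_aut
    obtain ⟨φ₀, hφ₀, -, hφ₀v⟩ := hdm
    refine ⟨α, hα, φ₀, hφ₀, fun x hx => ?_⟩
    rw [hαe, ← hfe, hdec x x.2]
    exact congrArg a (hφ₀v x).symm

/-- The automorphisms of the intersection in the meet extend congruent to the identity. -/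
theorem exists_congIn_top (h : Hyps p F E₁ E₂) {α : MulAut ↥(T₁ ⊓ T₂)}
    (hα : α ∈ (meetSystem p F E₁ E₂ h.le).autGroup (T₁ ⊓ T₂)) :
    ∃ g : Ω → Ω, Mor F (hull S (T₁ ⊓ T₂)) (hull S (T₁ ⊓ T₂)) g ∧ (∀ x : ↥(T₁ ⊓ T₂), g x = ((α x : ↥(T₁ ⊓ T₂)) : Ω)) ∧
      (∀ y ∈ hull S (T₁ ⊓ T₂), y⁻¹ * g y ∈ T₁ ⊓ T₂) ∧ Mor E₁ (hull T₁ (T₁ ⊓ T₂)) (hull T₁ (T₁ ⊓ T₂)) g ∧
        Mor E₂ (hull T₂ (T₁ ⊓ T₂)) (hull T₂ (T₁ ⊓ T₂)) g := by
  have hd : Data p F E₁ E₂ := h.toData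
  obtain ⟨f, hf, hfe⟩ := (actsIn_iff le_rfl).2 hα
  obtain ⟨k, hk, hke⟩ := inMeet_top h f hf
  obtain ⟨g, hg, hga, hgc, hg1, hg2⟩ := (bGood_of_mem_meetAut hd hd.tCentric_top hk).2.2.2 (T₁ ⊓ T₂) (fun x => x)
    (Mor.id F hd.le) (stronglyClosed_fullyCentralized hd.closed)
  refine ⟨g, hg, fun x => ?_, hgc, hg1, hg2⟩
  rw [hga x, ← hke x, hfe]

/-- The extension condition for normality. -/
theorem extension_of_congruent {U : Subgroup Ω} {V : Subgroup Ω} {D : FusionSystem V} {g : Ω → Ω} {α : MulAut U}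
    (hg : Mor D (hull V U) (hull V U) g) (hga : ∀ x : U, g x = ((α x : U) : Ω))
    (hgc : ∀ y ∈ hull V U, y⁻¹ * g y ∈ U) :
    ∃ β ∈ D.autGroup (U ⊔ centralizerIn V U),
      (∀ x : U, ((β (Subgroup.inclusion le_sup_left x) : ↥(U ⊔ centralizerIn V U)) : Ω) = ((α x : U) : Ω)) ∧
      ∀ c : ↥(U ⊔ centralizerIn V U), (c : Ω) ∈ centralizerIn V U →
        (c : Ω)⁻¹ * ((β c : ↥(U ⊔ centralizerIn V U)) : Ω) ∈ U ⊓ Subgroup.centralizer (U : Set Ω) := by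
  have hg' : Mor D (U ⊔ centralizerIn V U) (U ⊔ centralizerIn V U) g := hg
  obtain ⟨β, hβ, hβe⟩ := hg'.exists_aut
  refine ⟨β, hβ, fun x => (hβe _).trans (hga x), fun c hc => ⟨?_, ?_⟩⟩
  · show (c : Ω)⁻¹ * ((β c : ↥(U ⊔ centralizerIn V U)) : Ω) ∈ U
    rw [hβe]
    exact hgc c c.2
  · have hgU : Mor D U U g := hg.restrict_eq (le_hull V U) (fun x hx => by
        rw [show g x = _ from hga ⟨x, hx⟩]; exact Subtype.mem _)
      fun y hy => ⟨(α⁻¹ ⟨y, hy⟩ : U), Subtype.mem _, by rw [hga]; simp⟩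
    have h2 := hg.map_mem_centralizerIn hgU (le_hull V U) c.2 (H93.mem_centralizerIn.1 hc).2
    show (c : Ω)⁻¹ * ((β c : ↥(U ⊔ centralizerIn V U)) : Ω) ∈ Subgroup.centralizer (U : Set Ω)
    rw [hβe]
    exact Subgroup.mul_mem _ (Subgroup.inv_mem _ hc.2) h2.2

/-- The meet is normal in the ambient system. -/
theorem meet_isNormalIn (h : Hyps p F E₁ E₂) : (meetSystem p F E₁ E₂ h.le).IsNormalIn F p := by
  have hd : Data p F E₁ E₂ := h.toData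
  have hid : F.IsInvariantIn F := by
    refine ⟨fun _ _ hx => hx, ⟨le_rfl, fun R hR φ hφ x => (F.le_of_mem hφ).2 x⟩, fun P hP φ hφ α hα => ?_,
      fun P hP φ hφ => ⟨1, one_mem _, φ, hφ, fun x hx => rfl⟩⟩
    obtain ⟨a, ha, hae⟩ := H93.exists_mor_of_aut le_rfl hα
    obtain ⟨f, hf, hfe⟩ := H93.exists_mor hφ rfl
    obtain ⟨V, -, hV⟩ := ha.restrict hP
    obtain ⟨V', -, hV'⟩ := ha.restrict hf.le_right
    obtain ⟨ai, hai, hai1, -⟩ := hV.exists_inv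
    have hVeq : V = (P.subgroupOf S).map (S.subtype.comp α.toMonoidHom) := by
      ext y
      constructor
      · intro hy
        obtain ⟨x, hx, rfl⟩ := hV.surj hy
        exact ⟨⟨x, hP hx⟩, hx, (hae ⟨x, hP hx⟩).symm⟩
      · rintro ⟨x, hx, rfl⟩
        show ((α x : S) : Ω) ∈ V
        rw [← hae]
        exact hV.map_mem hx
    rw [← hVeq]
    obtain ⟨χ, hχ, -, hχv⟩ := (hV'.comp (hf.comp hai) : Mor F V V' _)
    refine ⟨χ, hχ, fun x hφx hαx => ?_⟩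
    rw [hχv]
    show a (f (ai ((α ⟨x, hP x.2⟩ : S) : Ω))) = _
    rw [← hae ⟨x, hP x.2⟩, hai1 x x.2, hfe, show a (φ x) = _ from hae ⟨φ x, hφx⟩]
  refine ⟨⟨meet_isSaturated h, hd.saturated,
    meet_isInvariantIn h hid hd.saturated hd.le (fun P => meetSystem_le P)⟩, fun α hα => ?_⟩
  obtain ⟨g, hg, hga, hgc, -, -⟩ := exists_congIn_top h hα
  exact extension_of_congruent hg hga hgc

/-- The meet is a subsystem of a system in which its generators act. -/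
theorem meet_isSubsystemOf (h : Hyps p F E₁ E₂) (hW : T₁ ⊓ T₂ ≤ W)
    (hgen : ∀ (U : Subgroup Ω) (a : MulAut U), BGood F E₁ E₂ U a → ActsIn E U a) :
    (meetSystem p F E₁ E₂ h.le).IsSubsystemOf E := by
  have hd : Data p F E₁ E₂ := h.toData
  have key := meet_induction hd (Φ := fun R R' f => Mor E R R' f) (fun R R' f f' e hΦ => hΦ.congr e) ?_
    (fun R R' R'' f f' _ _ hΦ hΦ' => hΦ'.comp hΦ) ?_
  · intro P φ hφ
    obtain ⟨f, hf, hfe⟩ := H93.exists_mor hφ rfl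
    obtain ⟨ψ, hψ, -, hψv⟩ := key _ _ f hf
    rwa [show φ = ψ from MonoidHom.ext fun x => (hfe x).symm.trans (hψv x).symm]
  · intro Q R R' f a hQ ha hRQ hfe hfR
    obtain ⟨g, hg, hge⟩ := hgen Q a (bGood_of_mem_meetAut hd hQ ha)
    have e : ∀ x ∈ R, g x = f x := fun x hx =>
      (hge ⟨x, hRQ hx⟩).trans (hfe ⟨x, hRQ hx⟩).symm
    refine (hg.restrict_eq hRQ (fun x hx => ?_) fun y hy => ?_).congr e
    · rw [e x hx]; exact hfR.map_mem hx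
    · obtain ⟨x, hx, rfl⟩ := hfR.surj hy
      exact ⟨x, hx, e x hx⟩
  · intro R R' f f' hf _ he hΦ
    obtain ⟨g, hg, hg1, -⟩ := hΦ.exists_inv
    refine hg.congr fun y hy => ?_
    obtain ⟨x, hx, rfl⟩ := hΦ.surj hy
    rw [hg1 x hx, he x hx]

/-- The meet is normal in the first subsystem. -/
theorem meet_isNormalIn_left (h : Hyps p F E₁ E₂) : (meetSystem p F E₁ E₂ h.le).IsNormalIn E₁ p := by
  have hd : Data p F E₁ E₂ := h.toData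
  refine ⟨⟨meet_isSaturated h, hd.left.1, meet_isInvariantIn h hd.left.2.2 hd.left.1 inf_le_left
    (meet_isSubsystemOf h inf_le_left fun U a ha => ha.2.1)⟩, fun α hα => ?_⟩
  obtain ⟨g, hg, hga, hgc, hg1, -⟩ := exists_congIn_top h hα
  exact extension_of_congruent hg1 hga fun y hy => hgc y (sup_le_sup le_rfl (inf_le_inf_right _ hd.left_le) hy)

/-- The meet is normal in the second subsystem. -/
theorem meet_isNormalIn_right (h : Hyps p F E₁ E₂) : (meetSystem p F E₁ E₂ h.le).IsNormalIn E₂ p := by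
  have hd : Data p F E₁ E₂ := h.toData
  refine ⟨⟨meet_isSaturated h, hd.right.1, meet_isInvariantIn h hd.right.2.2 hd.right.1 inf_le_right
    (meet_isSubsystemOf h inf_le_right fun U a ha => ha.2.2.1)⟩, fun α hα => ?_⟩
  obtain ⟨g, hg, hga, hgc, -, hg2⟩ := exists_congIn_top h hα
  exact extension_of_congruent hg2 hga fun y hy =>
    hgc y (sup_le_sup le_rfl (inf_le_inf_right _ hd.right.2.2.2.1.1) hy)

/-- The part of order prime to `p` of a power. -/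
theorem exists_pPrime_pow {G H : Type*} [Group G] [Finite G] [Group H] (b : G) (a : H)
    (hpow : ∀ n : ℕ, b ^ n = 1 → a ^ n = 1) (ha : (orderOf a).Coprime p) :
    ∃ n : ℕ, (orderOf (b ^ n)).Coprime p ∧ a ^ n = a := by
  obtain ⟨i, j, hij, ⟨e, he⟩, hj⟩ := H50.exists_p_p'_split (p := p) b
  refine ⟨j, hj, ?_⟩
  have hai : a ^ i = 1 := by
    have h1 : (a ^ i) ^ (p ^ e) = 1 := by
      rw [← pow_mul]
      exact hpow _ (by rw [pow_mul, ← he, pow_orderOf_eq_one])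
    have h2 : orderOf (a ^ i) = 1 :=
      Nat.eq_one_of_dvd_coprimes (ha.pow_right e) (orderOf_pow_dvd _) (orderOf_dvd_of_pow_eq_one h1)
    exact orderOf_eq_one_iff.1 h2
  obtain ⟨m, hm⟩ : ∃ m, m = orderOf b := ⟨_, rfl⟩
  have hb : b ^ (i + j) = b ^ 1 := by rw [pow_add, pow_one, ← hij]
  rw [pow_eq_pow_iff_modEq, ← hm] at hb
  have hdvd : orderOf a ∣ m := orderOf_dvd_of_pow_eq_one (hpow m (hm ▸ pow_orderOf_eq_one b))
  have h3 : a ^ (i + j) = a ^ 1 := pow_eq_pow_iff_modEq.2 (hb.of_dvd hdvd)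
  rwa [pow_add, hai, one_mul, pow_one] at h3

/-- An automorphism of order prime to `p` of the intersection in a subsystem normal in all three systems is good. -/
theorem bGood_top_of_normal (h : Data p F E₁ E₂) {D : FusionSystem (T₁ ⊓ T₂)} (hD : D.IsNormalIn F p)
    (hD₁ : D.IsNormalIn E₁ p) (hD₂ : D.IsNormalIn E₂ p) {a : MulAut ↥(T₁ ⊓ T₂)}
    (ha : a ∈ D.autGroup (T₁ ⊓ T₂)) (hap : (orderOf a).Coprime p) : BGood F E₁ E₂ (T₁ ⊓ T₂) a := by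
  have hTS := h.le
  have hact : ∀ {V : Subgroup Ω} {X : FusionSystem V}, D.IsSubsystemOf X → T₁ ⊓ T₂ ≤ V →
      ActsIn X (T₁ ⊓ T₂) a := fun {V X} hX hV =>
    (actsIn_iff hV).2 ((H96.mem_autGroup X hV).2 (hX _ ((H96.mem_autGroup D le_rfl).1 ha)))
  refine ⟨hact hD.1.2.2.1 hTS, hact hD₁.1.2.2.1 inf_le_left, hact hD₂.1.2.2.1 inf_le_right,
    fun U' φ hφ hU' => ?_⟩
  refine congIn_of_congIn h h.tCentric_top (Mor.id F hTS) hφ (stronglyClosed_fullyCentralized h.closed) hU' ?_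
  obtain ⟨β, hβ, hβa, hβc⟩ : ∃ β ∈ F.autGroup (hull S (T₁ ⊓ T₂)),
      (∀ x : ↥(T₁ ⊓ T₂), ((β (Subgroup.inclusion (le_hull S _) x) : ↥(hull S (T₁ ⊓ T₂))) : Ω) =
        ((a x : ↥(T₁ ⊓ T₂)) : Ω)) ∧
      ∀ c : ↥(hull S (T₁ ⊓ T₂)), (c : Ω) ∈ centralizerIn S (T₁ ⊓ T₂) →
        (c : Ω)⁻¹ * ((β c : ↥(hull S (T₁ ⊓ T₂))) : Ω) ∈
          T₁ ⊓ T₂ ⊓ Subgroup.centralizer ((T₁ ⊓ T₂ : Subgroup Ω) : Set Ω) := hD.2 a ha
  have hHS : hull S (T₁ ⊓ T₂) ≤ S := hull_le hTS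
  have := H96.finite_of_le hHS
  have := H96.finite_of_le hTS
  have : Finite (MulAut ↥(hull S (T₁ ⊓ T₂))) :=
    Finite.of_injective (fun e : MulAut ↥(hull S (T₁ ⊓ T₂)) => (e : _ → _)) DFunLike.coe_injective
  have hit : ∀ (n : ℕ) (x : ↥(T₁ ⊓ T₂)),
      (((β ^ n) (Subgroup.inclusion (le_hull _ _) x) : ↥(hull S (T₁ ⊓ T₂))) : Ω) = (((a ^ n) x : ↥(T₁ ⊓ T₂)) : Ω) := by
    intro n
    induction n with
    | zero => intro x; rfl
    | succ n ih =>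
      intro x
      rw [pow_succ a, pow_succ β, MulAut.mul_apply, MulAut.mul_apply, ← ih]
      exact congrArg (fun z => (((β ^ n) z : ↥(hull S (T₁ ⊓ T₂))) : Ω)) (Subtype.ext (hβa x))
  obtain ⟨n, hn, han⟩ := exists_pPrime_pow (p := p) β a (fun m hm => by
    refine MulEquiv.ext fun x => Subtype.ext ?_
    rw [← hit, hm]
    rfl) hap
  obtain ⟨γ, hγ⟩ : ∃ γ : MulAut ↥(hull S (T₁ ⊓ T₂)), γ = β ^ n := ⟨_, rfl⟩
  have hγF : γ ∈ F.autGroup (hull S (T₁ ⊓ T₂)) := hγ ▸ pow_mem hβ n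
  obtain ⟨g, hg, hge⟩ := H93.exists_mor_of_aut hHS hγF
  have hga : ∀ x : ↥(T₁ ⊓ T₂), g x = ((a x : ↥(T₁ ⊓ T₂)) : Ω) := fun x => by
    rw [show g x = _ from hge (Subgroup.inclusion (le_hull _ _) x), hγ, hit, han]
  have hgT : Mor F (T₁ ⊓ T₂) (T₁ ⊓ T₂) g := hg.restrict_eq (le_hull S _)
    (fun x hx => by rw [show g x = _ from hga ⟨x, hx⟩]; exact Subtype.mem _)
    fun y hy => ⟨(a⁻¹ ⟨y, hy⟩ : ↥(T₁ ⊓ T₂)), Subtype.mem _, by rw [hga]; simp⟩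
  -- congruence modulo the intersection
  have hcong : ∀ {V : Subgroup Ω}, V ≤ S → ∀ {e : MulAut ↥(hull V (T₁ ⊓ T₂))},
      (∀ x : ↥(T₁ ⊓ T₂), ((e (Subgroup.inclusion (le_hull _ _) x) : ↥(hull V (T₁ ⊓ T₂))) : Ω) ∈ T₁ ⊓ T₂) →
      (∀ c : ↥(hull V (T₁ ⊓ T₂)), (c : Ω) ∈ centralizerIn V (T₁ ⊓ T₂) →
        (c : Ω)⁻¹ * ((e c : ↥(hull V (T₁ ⊓ T₂))) : Ω) ∈ T₁ ⊓ T₂) →
      ∀ y : ↥(hull V (T₁ ⊓ T₂)), (y : Ω)⁻¹ * ((e y : ↥(hull V (T₁ ⊓ T₂))) : Ω) ∈ T₁ ⊓ T₂ := by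
    intro V hV e heT hec y
    have hy : (y : Ω) ∈ (((T₁ ⊓ T₂) ⊔ centralizerIn V (T₁ ⊓ T₂) : Subgroup Ω) : Set Ω) := y.2
    rw [Subgroup.coe_mul_of_right_le_normalizer_left (T₁ ⊓ T₂) (centralizerIn V (T₁ ⊓ T₂))
      ((inf_le_right : centralizerIn V (T₁ ⊓ T₂) ≤ _).trans (Subgroup.centralizer_le_normalizer _))] at hy
    obtain ⟨u, hu, c, hc, hy⟩ := hy
    rw [show y = Subgroup.inclusion (le_hull V _) ⟨u, hu⟩ * ⟨c, centralizerIn_le_hull V _ hc⟩ from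
      Subtype.ext hy.symm, map_mul]
    show (u * c)⁻¹ * (((e _ : ↥(hull V (T₁ ⊓ T₂))) : Ω) * ((e _ : ↥(hull V (T₁ ⊓ T₂))) : Ω)) ∈ _
    have h1 := Subgroup.mul_mem _ ((Subgroup.mem_normalizer_iff.1
      (Subgroup.centralizer_le_normalizer _ (Subgroup.inv_mem _ hc.2)) _).1
      (Subgroup.mul_mem _ (Subgroup.inv_mem _ hu) (heT ⟨u, hu⟩))) (hec ⟨c, centralizerIn_le_hull V _ hc⟩ hc)
    convert h1 using 1
    simp [mul_assoc]
  have hγc : ∀ y : ↥(hull S (T₁ ⊓ T₂)), (y : Ω)⁻¹ * ((γ y : ↥(hull S (T₁ ⊓ T₂))) : Ω) ∈ T₁ ⊓ T₂ := by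
    have h1 := hcong le_rfl (e := β) (fun x => by rw [hβa]; exact Subtype.mem _) fun c hc => (hβc c hc).1
    rw [hγ]
    clear hγ han hn
    induction n with
    | zero => intro y; simp
    | succ n ih =>
      intro y
      rw [pow_succ, MulAut.mul_apply]
      have h2 := Subgroup.mul_mem _ (h1 y) (ih (β y))
      rwa [mul_assoc, mul_inv_cancel_left] at h2
  -- the restrictions lie in the subsystems
  have hpart : ∀ {V : Subgroup Ω} {X : FusionSystem V}, X.IsInvariantIn F → T₁ ⊓ T₂ ≤ V → D.IsNormalIn X p →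
      Mor X (hull V (T₁ ⊓ T₂)) (hull V (T₁ ⊓ T₂)) g := by
    intro V X hX hV hDX
    have hVS := hX.2.1.1
    have hle : hull V (T₁ ⊓ T₂) ≤ hull S (T₁ ⊓ T₂) := sup_le_sup le_rfl (inf_le_inf_right _ hVS)
    have hgV := mor_hull_restrict hX.2.1 hV hV hg hgT
    obtain ⟨δ, hδ, hδe⟩ := hgV.exists_aut
    obtain ⟨e, he, hea, hec⟩ : ∃ e ∈ X.autGroup (hull V (T₁ ⊓ T₂)),
        (∀ x : ↥(T₁ ⊓ T₂), ((e (Subgroup.inclusion (le_hull V _) x) : ↥(hull V (T₁ ⊓ T₂))) : Ω) =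
          ((a x : ↥(T₁ ⊓ T₂)) : Ω)) ∧
        ∀ c : ↥(hull V (T₁ ⊓ T₂)), (c : Ω) ∈ centralizerIn V (T₁ ⊓ T₂) →
          (c : Ω)⁻¹ * ((e c : ↥(hull V (T₁ ⊓ T₂))) : Ω) ∈
            T₁ ⊓ T₂ ⊓ Subgroup.centralizer ((T₁ ⊓ T₂ : Subgroup Ω) : Set Ω) := hDX.2 a ha
    have hec' := hcong hVS (e := e) (fun x => by rw [hea]; exact Subtype.mem _) fun c hc => (hec c hc).1
    have hδγ : ∀ (m : ℕ) (x : ↥(hull V (T₁ ⊓ T₂))), (((δ ^ m) x : ↥(hull V (T₁ ⊓ T₂))) : Ω) =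
        (((γ ^ m) (Subgroup.inclusion hle x) : ↥(hull S (T₁ ⊓ T₂))) : Ω) := by
      intro m
      induction m with
      | zero => intro x; rfl
      | succ m ih =>
        intro x
        rw [pow_succ δ, pow_succ γ, MulAut.mul_apply, MulAut.mul_apply, ih]
        exact congrArg (fun z => (((γ ^ m) z : ↥(hull S (T₁ ⊓ T₂))) : Ω))
          (Subtype.ext ((hδe x).trans (hge (Subgroup.inclusion hle x))))
    have hδT : ∀ x : ↥(hull V (T₁ ⊓ T₂)), (x : Ω) ∈ T₁ ⊓ T₂ → ((δ x : ↥(hull V (T₁ ⊓ T₂))) : Ω) =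
        ((e x : ↥(hull V (T₁ ⊓ T₂))) : Ω) := fun x hx => by
      rw [hδe]
      exact (hga ⟨x, hx⟩).trans (hea ⟨x, hx⟩).symm
    have hδp : (orderOf δ).Coprime p := by
      refine Nat.Coprime.coprime_dvd_left (orderOf_dvd_of_pow_eq_one ?_) (hγ ▸ hn : (orderOf γ).Coprime p)
      refine MulEquiv.ext fun x => Subtype.ext ?_
      rw [hδγ, pow_orderOf_eq_one]
      rfl
    have hmem := mem_autGroup_of_stabilizes h.isPGroup hX hVS (hull_le hV) (le_hull V (T₁ ⊓ T₂)) hδ he hδp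
      (fun x hx => Subtype.ext (hδT x hx)) (fun x => ?_) fun x hx => ?_
    · obtain ⟨f, hf, hfe⟩ := H93.exists_mor_of_aut (hull_le hV) hmem
      exact hf.congr fun x hx => (hfe ⟨x, hx⟩).trans (hδe ⟨x, hx⟩)
    · have h1 : (x : Ω)⁻¹ * ((δ x : ↥(hull V (T₁ ⊓ T₂))) : Ω) ∈ T₁ ⊓ T₂ := by
        rw [hδe, show g x = _ from hge (Subgroup.inclusion hle x)]
        exact hγc (Subgroup.inclusion hle x)
      have h2 := Subgroup.mul_mem _ (Subgroup.inv_mem _ h1) (hec' x)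
      simpa [mul_assoc] using h2
    · obtain ⟨z, hz, hze⟩ := hgT.surj hx
      have : δ⁻¹ x = ⟨z, le_hull V _ hz⟩ := by
        rw [show x = δ ⟨z, le_hull V _ hz⟩ from Subtype.ext (hze.symm.trans (hδe ⟨z, le_hull V _ hz⟩).symm)]
        exact δ.symm_apply_apply _
      rw [this]
      exact hz
  exact ⟨g, hg, hga, fun y hy => by rw [show g y = _ from hge ⟨y, hy⟩]; exact hγc ⟨y, hy⟩,
    hpart h.left.2.2 inf_le_left hD₁, hpart h.right.2.2 inf_le_right hD₂⟩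

/-- The meet contains every subsystem over the intersection which is normal in all three systems. -/
theorem isSubsystemOf_meet (h : Hyps p F E₁ E₂) {D : FusionSystem (T₁ ⊓ T₂)} (hD : D.IsNormalIn F p)
    (hD₁ : D.IsNormalIn E₁ p) (hD₂ : D.IsNormalIn E₂ p) : D.IsSubsystemOf (meetSystem p F E₁ E₂ h.le) := by
  have hd : Data p F E₁ E₂ := h.toData
  have := H96.finite_of_le hd.le
  have hTp : IsPGroup p ↥(T₁ ⊓ T₂) := hd.isPGroup.to_le hd.le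
  have hfn : D.IsFullyNormalized (T₁ ⊓ T₂) := by
    refine ⟨le_rfl, fun R hR => Nat.le_of_eq ?_⟩
    rw [Subgroup.eq_of_le_of_card_ge (H93.isConj_le_right hR) (H93.isConj_card_eq hR).le]
  obtain ⟨-, P, hP⟩ := (H93.IsFullyNormalized.isFullyAutomized_and_receptive hTp hD.1.1 hfn).1
  have htop : ∀ a ∈ D.autGroup (T₁ ⊓ T₂), a ∈ meetAut p F E₁ E₂ (T₁ ⊓ T₂) := by
    intro a ha
    have : Finite (MulAut ↥(T₁ ⊓ T₂)) :=
      Finite.of_injective (fun e : MulAut ↥(T₁ ⊓ T₂) => (e : _ → _)) DFunLike.coe_injective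
    obtain ⟨i, j, hij, ⟨e, he⟩, hj⟩ := H50.exists_p_p'_split (p := p) a
    rw [hij]
    refine mul_mem (autInducedBy_le_meetAut hd.le ?_) (Subgroup.subset_closure
      (Or.inl ⟨bGood_top_of_normal hd hD hD₁ hD₂ (pow_mem ha j) hj, hj⟩))
    have hnorm : (P : Subgroup (D.autGroup (T₁ ⊓ T₂))).Normal := by
      refine ⟨fun k hk c => ?_⟩
      rw [hP, Subgroup.mem_subgroupOf] at hk ⊢
      obtain ⟨t, ht, hte⟩ := H96.mem_autInducedBy.1 hk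
      refine H96.mem_autInducedBy.2 ⟨((c : MulAut ↥(T₁ ⊓ T₂)) ⟨t, ht⟩ : ↥(T₁ ⊓ T₂)), Subtype.mem _, fun y => ?_⟩
      obtain ⟨x, rfl⟩ := (c : MulAut ↥(T₁ ⊓ T₂)).surjective y
      have h1 : (k : MulAut ↥(T₁ ⊓ T₂)) x = ⟨t, ht⟩ * x * ⟨t, ht⟩⁻¹ :=
        Subtype.ext ((hte x).trans (by simp))
      simp [h1]
    obtain ⟨z, hz⟩ : ∃ z : D.autGroup (T₁ ⊓ T₂), z = ⟨a ^ i, pow_mem ha i⟩ := ⟨_, rfl⟩
    have hzp : IsPGroup p (Subgroup.zpowers z) :=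
      IsPGroup.of_card (n := e) (by rw [Nat.card_zpowers, hz, ← Subgroup.orderOf_coe, ← he])
    have hzP : z ∈ (P : Subgroup (D.autGroup (T₁ ⊓ T₂))) := by
      have := P.3 (hzp.to_sup_of_normal_right P.2) le_sup_right
      exact this ▸ Subgroup.mem_sup_left (Subgroup.mem_zpowers z)
    rw [hP, Subgroup.mem_subgroupOf, hz] at hzP
    exact hzP
  intro Q φ hφ
  have hQ : Q ≤ T₁ ⊓ T₂ := (D.le_of_mem hφ).1
  have hFr : ∀ (P P' : Subgroup Ω) (f : Ω → Ω), P ≤ T₁ ⊓ T₂ → Mor F P P' f → ∃ (a e : Ω → Ω) (Z : Subgroup Ω),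
      Mor F (T₁ ⊓ T₂) (T₁ ⊓ T₂) a ∧ Mor D P Z e ∧ ∀ x ∈ P, f x = a (e x) := by
    intro P P' f hP hf
    obtain ⟨ψ, hψ, -, hψv⟩ := id hf
    obtain ⟨α, hα, φ₀, hφ₀, he⟩ := hD.1.2.2.2.2.2 P hP ψ hψ
    obtain ⟨a, ha, hae⟩ := H93.exists_mor_of_aut hd.le hα
    obtain ⟨e, he', hee⟩ := H93.exists_mor hφ₀ rfl
    refine ⟨a, e, _, ha, he', fun x hx => ?_⟩
    have hxW := (D.le_of_mem hφ₀).2 ⟨x, hx⟩
    rw [← hψv ⟨x, hx⟩, he ⟨x, hx⟩ hxW, show e x = φ₀ ⟨x, hx⟩ from hee ⟨x, hx⟩]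
    exact (hae ⟨_, hxW⟩).symm
  obtain ⟨f, hf, hfe⟩ := H93.exists_mor hφ rfl
  obtain ⟨α, d, Z, hα, hdm, hdec⟩ := exists_decomposition hd h.sylow hD.1.1 hD.1.2.2.1
    ⟨le_rfl, fun R _ ψ hψ x => (D.le_of_mem hψ).2 x⟩ hFr hQ hf
  obtain ⟨a, ha, hae⟩ := hα.exists_aut
  obtain ⟨g, hg, hge⟩ := actsIn_meet hd hd.tCentric_top (htop a ha)
  obtain ⟨Z', -, hgZ⟩ := hg.restrict hdm.le_right
  obtain ⟨χ, hχ, -, hχv⟩ := hgZ.comp hdm
  rwa [show φ = χ from MonoidHom.ext fun x => by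
    rw [hχv, ← hfe, hdec x x.2]
    exact (hae ⟨_, hdm.le_right (hdm.map_mem x.2)⟩).symm.trans (hge ⟨_, hdm.le_right (hdm.map_mem x.2)⟩).symm]

end Cfsg.Agent.H94.Meet
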